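import Mathlib.RingTheory.Flat.Basic
import Mathlib.LinearAlgebra.TensorProduct.Pi
import Mathlib.Algebra.Module.Injective
import Mathlib.RingTheory.Noetherian.Basic

/-! A flat module tensor an injective module is injective over a Noetherian ring. -/

universe u

open TensorProduct

namespace GrothLib.InjMod

variable {R : Type u} [CommRing R] [IsNoetherianRing R]

theorem injective_tensor_of_flat (F E : Type u) [AddCommGroup F] [Module R F] [AddCommGroup E]
    [Module R E] [Module.Flat R F] [Module.Injective R E] :
    Module.Injective R (TensorProduct R F E) := by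
  classical
  apply Module.Baer.injective
  intro a g
  obtain ⟨r, π, hπ⟩ := Module.Finite.exists_fin' R a
  obtain ⟨s, k, hk⟩ := Submodule.fg_iff_exists_fin_generating_family.1
    (IsNoetherian.noetherian (LinearMap.ker π))
  let A : (Fin r → E) →ₗ[R] (Fin s → E) :=
    LinearMap.pi fun j => ∑ i, k j i • LinearMap.proj i
  let e := TensorProduct.piRight R R F (fun _ : Fin r => E)
  let v : F ⊗[R] (Fin r → E) := e.symm fun i => g (π (Pi.single i 1))
  have hev : ∀ i, e v i = g (π (Pi.single i 1)) := fun i => by rw [e.apply_symm_apply]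
  have hproj : ∀ (i : Fin r) (z : F ⊗[R] (Fin r → E)),
      e z i = LinearMap.lTensor F (LinearMap.proj i) z := by
    intro i z
    induction z using TensorProduct.induction_on with
    | zero => simp
    | tmul f x => rfl
    | add z w hz hw => rw [map_add, map_add, Pi.add_apply, hz, hw]
  have hA : LinearMap.lTensor F A v = 0 := by
    apply (TensorProduct.piRight R R F (fun _ : Fin s => E)).injective
    rw [map_zero]
    ext j
    have h1 : ∀ z : F ⊗[R] (Fin r → E),
        TensorProduct.piRight R R F (fun _ : Fin s => E) (LinearMap.lTensor F A z) j =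
          ∑ i, k j i • e z i := by
      intro z
      induction z using TensorProduct.induction_on with
      | zero => simp
      | tmul f x =>
        simp [A, e, TensorProduct.tmul_sum, Finset.sum_apply, TensorProduct.tmul_smul]
      | add z w hz hw => simp only [map_add, Pi.add_apply, hz, hw, smul_add, Finset.sum_add_distrib]
    rw [h1, Pi.zero_apply]
    simp only [hev, ← map_smul, ← map_sum]
    have hsum : ∑ i, k j i • Pi.single (M := fun _ => R) i (1 : R) = k j := by
      ext l; simp [Finset.sum_apply, Pi.single_apply]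
    have hkj : π (k j) = 0 := LinearMap.mem_ker.1 (hk ▸ Submodule.subset_span ⟨j, rfl⟩)
    rw [hsum, hkj, map_zero]
  have hex := Module.Flat.lTensor_exact F
    (LinearMap.exact_subtype_ker_map A)
  obtain ⟨w, hw⟩ := (hex v).1 hA
  have hext : ∀ x : LinearMap.ker A, ∃ t : E, ∀ i, ((π (Pi.single i 1) : a) : R) • t = x.1 i := by
    intro x
    let y : (Fin r → R) →ₗ[R] E := (Pi.basisFun R (Fin r)).constr R x.1
    have hy : LinearMap.ker π ≤ LinearMap.ker y := by
      rw [← hk, Submodule.span_le]
      rintro _ ⟨j, rfl⟩
      show y (k j) = 0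
      have := congrFun (LinearMap.mem_ker.1 x.2) j
      simpa [A, y, Module.Basis.constr_apply_fintype, Pi.basisFun_equivFun] using this
    let h : a →ₗ[R] E := (LinearMap.ker π).liftQ y hy ∘ₗ (π.quotKerEquivOfSurjective hπ).symm.toLinearMap
    obtain ⟨ht, hht⟩ := Module.Injective.out a.subtype a.injective_subtype h
    refine ⟨ht 1, fun i => ?_⟩
    rw [← map_smul, smul_eq_mul, mul_one]
    refine (hht _).trans ?_
    have h2 : (π.quotKerEquivOfSurjective hπ).symm (π (Pi.single i 1)) =
        Submodule.Quotient.mk (Pi.single i 1) := by rw [LinearEquiv.symm_apply_eq]; rfl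
    simp only [h, LinearMap.comp_apply, LinearEquiv.coe_coe, h2, Submodule.liftQ_apply, y]
    rw [← Pi.basisFun_apply, Module.Basis.constr_basis]
  have main : ∀ w : F ⊗[R] LinearMap.ker A, ∃ t : F ⊗[R] E, ∀ i,
      ((π (Pi.single i 1) : a) : R) • t = e (LinearMap.lTensor F (LinearMap.ker A).subtype w) i := by
    intro w
    induction w using TensorProduct.induction_on with
    | zero => exact ⟨0, fun i => by simp⟩
    | tmul f x =>
      obtain ⟨t, ht⟩ := hext x
      exact ⟨f ⊗ₜ t, fun i => by rw [← TensorProduct.tmul_smul, ht]; rfl⟩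
    | add z z' hz hz' =>
      obtain ⟨t, ht⟩ := hz
      obtain ⟨t', ht'⟩ := hz'
      exact ⟨t + t', fun i => by rw [smul_add, ht, ht', map_add, map_add, Pi.add_apply]⟩
  obtain ⟨t, ht⟩ := main w
  refine ⟨LinearMap.toSpanSingleton R _ t, fun x hx => ?_⟩
  obtain ⟨z, hz⟩ := hπ ⟨x, hx⟩
  have key : ((LinearMap.toSpanSingleton R _ t) ∘ₗ a.subtype) ∘ₗ π = g ∘ₗ π := by
    refine (Pi.basisFun R (Fin r)).ext fun i => ?_
    rw [Pi.basisFun_apply]
    exact (ht i).trans (by rw [hw, hev]; rfl)
  have := LinearMap.congr_fun key z
  simp only [LinearMap.comp_apply, hz] at this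
  exact this

end GrothLib.InjMod
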