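import Groth.Agent.Lib.InjMod.Essential
import Mathlib.RingTheory.Filtration
import Mathlib.RingTheory.Ideal.AssociatedPrime.Basic
import Mathlib.Algebra.DirectSum.Module
import Mathlib.Algebra.Module.FinitePresentation
import Mathlib.RingTheory.Localization.Module
import Mathlib.RingTheory.Localization.Ideal
import Mathlib.RingTheory.LocalRing.ResidueField.Ideal

/-! Injective modules over Noetherian rings. -/

universe u v

namespace GrothLib.InjMod

variable {R : Type u} [CommRing R]

section Torsion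

variable {E : Type v} [AddCommGroup E] [Module R E]

theorem mem_iSup_torsionBySet_pow (J : Ideal R) (x : E) :
    x ∈ (⨆ n : ℕ, Submodule.torsionBySet R E ((J ^ n : Ideal R) : Set R)) ↔
      ∃ n : ℕ, ∀ a ∈ J ^ n, a • x = 0 := by
  rw [Submodule.mem_iSup_of_directed]
  · simp only [Submodule.mem_torsionBySet_iff, SetLike.coe_sort_coe, Subtype.forall]
  · exact Monotone.directed_le fun m n h => Submodule.torsionBySet_le_torsionBySet_of_subset
      (SetLike.coe_subset_coe.2 (Ideal.pow_le_pow_right h))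

/-- A submodule consisting of all power-torsion elements of an injective module is injective. -/
theorem injective_of_mem_iff_powTorsion [IsNoetherianRing R] [Small.{v} R]
    (hE : Module.Injective R E) (J : Ideal R) (T : Submodule R E)
    (hT : ∀ x, x ∈ T ↔ ∃ n : ℕ, ∀ a ∈ J ^ n, a • x = 0) : Module.Injective R T := by
  apply Module.Baer.injective
  intro a g
  obtain ⟨s, hs⟩ := IsNoetherian.noetherian a
  have hkill : ∃ k : ℕ, ∀ (x : a), ∀ c ∈ J ^ k, c • g x = 0 := by
    classical
    have hsa : ∀ y ∈ s, y ∈ a := fun y hy => hs ▸ Submodule.subset_span hy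
    choose n hn using fun y : s => (hT (g ⟨y, hsa y y.2⟩ : E)).1 (g ⟨y, hsa y y.2⟩).2
    refine ⟨s.attach.sup n, fun x c hc => ?_⟩
    have hx : (x : R) ∈ Submodule.span R (s : Set R) := by rw [hs]; exact x.2
    suffices ∀ z (hz : z ∈ Submodule.span R (s : Set R)),
        c • g ⟨z, hs ▸ hz⟩ = 0 from this x hx
    intro z hz
    induction hz using Submodule.span_induction with
    | mem y hy => exact Subtype.ext (hn ⟨y, hy⟩ c (Ideal.pow_le_pow_right
        (Finset.le_sup (f := n) (Finset.mem_attach _ ⟨y, hy⟩)) hc))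
    | zero => rw [show (⟨0, _⟩ : a) = 0 from rfl, map_zero, smul_zero]
    | add y z hy hz h1 h2 =>
      rw [show (⟨y + z, _⟩ : a) = ⟨y, hs ▸ hy⟩ + ⟨z, hs ▸ hz⟩ from rfl, map_add, smul_add, h1,
        h2, add_zero]
    | smul r y hy h1 =>
      rw [show (⟨r • y, _⟩ : a) = r • (⟨y, hs ▸ hy⟩ : a) from rfl, map_smul, smul_comm, h1,
        smul_zero]
  obtain ⟨k, hk⟩ := hkill
  obtain ⟨k₀, hk₀⟩ := Ideal.exists_pow_inf_eq_pow_smul J (M := R) a
  have hvanish : ∀ x : a, (x : R) ∈ J ^ (k₀ + k) → g x = 0 := by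
    intro x hx
    have h1 : (x : R) ∈ J ^ (k₀ + k) • (⊤ : Submodule R R) ⊓ a := ⟨by simpa using hx, x.2⟩
    rw [hk₀ _ (Nat.le_add_right _ _), Nat.add_sub_cancel_left] at h1
    have h2 : ∀ z (hz : z ∈ J ^ k • (J ^ k₀ • (⊤ : Submodule R R) ⊓ a)) (h : z ∈ a),
        g ⟨z, h⟩ = 0 := by
      intro z hz
      induction hz using Submodule.smul_induction_on' with
      | smul c hc y hy =>
        intro h
        rw [show (⟨c • y, h⟩ : a) = c • (⟨y, hy.2⟩ : a) from rfl, map_smul, hk _ c hc]
      | add y hy z hz h1 h2 =>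
        intro h
        have hya : y ∈ a := (Submodule.smul_le_right.trans inf_le_right) hy
        have hza : z ∈ a := (Submodule.smul_le_right.trans inf_le_right) hz
        rw [show (⟨y + z, h⟩ : a) = ⟨y, hya⟩ + ⟨z, hza⟩ from rfl, map_add, h1 hya, h2 hza,
          add_zero]
    exact h2 x h1 x.2
  let q : a →ₗ[R] R ⧸ J ^ (k₀ + k) := (J ^ (k₀ + k)).mkQ ∘ₗ a.subtype
  have hker : LinearMap.ker q ≤ LinearMap.ker g := fun x hx => hvanish x ((Submodule.Quotient.mk_eq_zero _).1 hx)
  let g' : a ⧸ LinearMap.ker q →ₗ[R] E := T.subtype ∘ₗ (LinearMap.ker q).liftQ g hker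
  let q' : a ⧸ LinearMap.ker q →ₗ[R] R ⧸ J ^ (k₀ + k) := (LinearMap.ker q).liftQ q le_rfl
  have hq' : Function.Injective q' := by
    rw [← LinearMap.ker_eq_bot]; exact Submodule.ker_liftQ_eq_bot _ _ _ le_rfl
  obtain ⟨h, hh⟩ := Module.Baer.extension_property (Module.Baer.of_injective hE) q' hq' g'
  have hmem : ∀ r : R, h ((J ^ (k₀ + k)).mkQ r) ∈ T := fun r => (hT _).2 ⟨k₀ + k, fun c hc => by
    rw [← map_smul, ← map_smul, show (J ^ (k₀ + k)).mkQ (c • r) = 0 from
      (Submodule.Quotient.mk_eq_zero _).2 (Ideal.mul_mem_right r _ hc), map_zero]⟩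
  refine ⟨LinearMap.codRestrict T (h ∘ₗ (J ^ (k₀ + k)).mkQ) hmem, fun x hx => Subtype.ext ?_⟩
  exact LinearMap.congr_fun hh (Submodule.Quotient.mk ⟨x, hx⟩)

theorem injective_iSup_torsionBySet_pow [IsNoetherianRing R] [Small.{v} R]
    (hE : Module.Injective R E) (J : Ideal R) :
    Module.Injective R ↥(⨆ n : ℕ, Submodule.torsionBySet R E ((J ^ n : Ideal R) : Set R)) :=
  injective_of_mem_iff_powTorsion hE J _ fun x => mem_iSup_torsionBySet_pow J x

end Torsion

section DirectSum

/-- Over a Noetherian ring direct sums of injective modules are injective. -/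
theorem injective_directSum [IsNoetherianRing R] [Small.{v} R] {ι : Type*} (E : ι → Type v)
    [∀ i, AddCommGroup (E i)] [∀ i, Module R (E i)] [Small.{v} ι]
    (hE : ∀ i, Module.Injective R (E i)) : Module.Baer R (DirectSum ι E) := by
  classical
  intro a g
  obtain ⟨s, hs⟩ := IsNoetherian.noetherian a
  have hsa : ∀ y ∈ s, y ∈ a := fun y hy => hs ▸ Submodule.subset_span hy
  let T : Finset ι := s.attach.biUnion fun y => (g ⟨y, hsa y y.2⟩).support
  have hsupp : ∀ x : a, ∀ i ∉ T, g x i = 0 := by
    intro x i hi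
    suffices ∀ z (hz : z ∈ Submodule.span R (s : Set R)), g ⟨z, hs ▸ hz⟩ i = 0 from
      this x (by rw [hs]; exact x.2)
    intro z hz
    induction hz using Submodule.span_induction with
    | mem y hy =>
      by_contra hne
      exact hi (Finset.mem_biUnion.2 ⟨⟨y, hy⟩, Finset.mem_attach _ _, DFinsupp.mem_support_iff.2 hne⟩)
    | zero => rw [show (⟨0, _⟩ : a) = 0 from rfl, map_zero]; rfl
    | add y z hy hz h1 h2 =>
      rw [show (⟨y + z, _⟩ : a) = ⟨y, hs ▸ hy⟩ + ⟨z, hs ▸ hz⟩ from rfl, map_add, DirectSum.add_apply,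
        h1, h2, add_zero]
    | smul r y hy h1 =>
      rw [show (⟨r • y, _⟩ : a) = r • (⟨y, hs ▸ hy⟩ : a) from rfl, map_smul]
      exact (DirectSum.smul_apply r _ i).trans (by rw [h1, smul_zero])
  choose f hf using fun i => Module.Baer.of_injective (hE i) a (DirectSum.component R ι E i ∘ₗ g)
  refine ⟨∑ i ∈ T, DirectSum.lof R ι E i ∘ₗ f i, fun x hx => ?_⟩
  rw [LinearMap.sum_apply]
  refine DFinsupp.ext fun j => ?_
  rw [DFinsupp.finsetSum_apply]
  by_cases hj : j ∈ T
  · rw [Finset.sum_eq_single_of_mem j hj fun i _ hij => DirectSum.of_eq_of_ne _ _ _ (Ne.symm hij)]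
    exact (DirectSum.of_eq_same _ _).trans (hf j x hx)
  · rw [hsupp ⟨x, hx⟩ j hj]
    exact Finset.sum_eq_zero fun i hi => DirectSum.of_eq_of_ne _ _ _ (fun e => hj (e ▸ hi))

/-- The supremum of an independent family of injective submodules is injective. -/
theorem injective_iSup_of_iSupIndep [IsNoetherianRing R] [Small.{v} R] {M : Type v} [AddCommGroup M]
    [Module R M] {ι : Type*} [Small.{v} ι] (A : ι → Submodule R M) (hA : iSupIndep A)
    (hinj : ∀ i, Module.Injective R (A i)) : Module.Injective R ↥(⨆ i, A i) := by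
  classical
  apply Module.Baer.injective
  refine Module.Baer.of_equiv ?_ (injective_directSum (fun i => A i) hinj)
  refine LinearEquiv.ofBijective (LinearMap.codRestrict _
    (DirectSum.coeLinearMap A) fun x => ?_) ⟨fun a b e => ?_, fun y => ?_⟩
  · rw [← DirectSum.range_coeLinearMap]; exact LinearMap.mem_range_self _ _
  · exact iSupIndep.dfinsupp_lsum_injective hA (congrArg Subtype.val e)
  · have hy := y.2
    rw [← SetLike.mem_coe] at hy
    obtain ⟨x, hx⟩ : (y : M) ∈ LinearMap.range (DirectSum.coeLinearMap A) := by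
      rw [DirectSum.range_coeLinearMap]; exact y.2
    exact ⟨x, Subtype.ext hx⟩

end DirectSum

section Localization

variable (S : Submonoid R) {M : Type v} [AddCommGroup M] [Module R M]

theorem localized_inf_ne_bot [IsNoetherianRing R] (N : Submodule R M)
    (hN : ∀ N' : Submodule R M, N' ≠ ⊥ → N' ⊓ N ≠ ⊥)
    (L : Submodule (Localization S) (LocalizedModule S M)) (hL : L ≠ ⊥) :
    L ⊓ Submodule.localized S N ≠ ⊥ := by
  obtain ⟨z, hz, hz0⟩ := Submodule.exists_mem_ne_zero_of_ne_bot hL
  obtain ⟨⟨x, s⟩, rfl⟩ := IsLocalizedModule.mk'_surjective S (LocalizedModule.mkLinearMap S M) z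
  have hxL : LocalizedModule.mkLinearMap S M x ∈ L := by
    have := Submodule.smul_of_tower_mem L (s : R) hz
    rw [← Submonoid.smul_def] at this
    simpa only [Function.uncurry_apply_pair, IsLocalizedModule.mk'_cancel'] using this
  have hx0 : ∀ t ∈ S, t • x ≠ 0 := fun t ht e =>
    hz0 ((IsLocalizedModule.mk'_eq_zero' _ s).2 ⟨⟨t, ht⟩, e⟩)
  obtain ⟨A, ⟨⟨t₀, ht₀⟩, rfl⟩, hmax⟩ := set_has_maximal_iff_noetherian.2
    (inferInstance : IsNoetherian R R)
    (Set.range fun t : S => LinearMap.ker (LinearMap.toSpanSingleton R M ((t : R) • x)))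
    (Set.range_nonempty _)
  have hne : Submodule.span R {t₀ • x} ≠ ⊥ := by simpa using hx0 t₀ ht₀
  obtain ⟨y, ⟨hy1, hy2⟩, hy0⟩ := Submodule.exists_mem_ne_zero_of_ne_bot (hN _ hne)
  obtain ⟨r, rfl⟩ := Submodule.mem_span_singleton.1 hy1
  intro hbot
  have hmem : LocalizedModule.mkLinearMap S M (r • t₀ • x) ∈ L ⊓ Submodule.localized S N := by
    refine ⟨?_, ⟨r • t₀ • x, hy2, 1, by simp⟩⟩
    rw [map_smul, map_smul]
    exact Submodule.smul_of_tower_mem L r (Submodule.smul_of_tower_mem L t₀ hxL)
  rw [hbot, Submodule.mem_bot] at hmem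
  obtain ⟨c, hc⟩ := (IsLocalizedModule.eq_zero_iff S (LocalizedModule.mkLinearMap S M)).1 hmem
  have hle : LinearMap.ker (LinearMap.toSpanSingleton R M (t₀ • x)) ≤
      LinearMap.ker (LinearMap.toSpanSingleton R M (((c : R) * t₀) • x)) := fun a ha => by
    simp only [LinearMap.mem_ker, LinearMap.toSpanSingleton_apply] at ha ⊢
    rw [mul_smul, smul_comm a, ha, smul_zero]
  have heq := eq_of_le_of_not_lt hle (hmax _ ⟨c * ⟨t₀, ht₀⟩, rfl⟩)
  have hr : r ∈ LinearMap.ker (LinearMap.toSpanSingleton R M (((c : R) * t₀) • x)) := by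
    simp only [LinearMap.mem_ker, LinearMap.toSpanSingleton_apply]
    rw [mul_smul, smul_comm]
    exact hc
  rw [← heq] at hr
  exact hy0 (by simpa using hr)

/-- Localisations of injective modules over a Noetherian ring are injective. -/
theorem injective_localizedModule [IsNoetherianRing R] {E : Type u} [AddCommGroup E] [Module R E]
    (hE : Module.Injective R E) :
    Module.Injective (Localization S) (LocalizedModule S E) := by
  apply Module.Baer.injective
  intro J g
  let a : Ideal R := J.comap (algebraMap R (Localization S))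
  have : Module.Finite R a := Module.Finite.iff_fg.2 (IsNoetherian.noetherian a)
  have : Module.FinitePresentation R a := Module.finitePresentation_of_finite R a
  let ι : a →ₗ[R] J :=
    { toFun := fun x => ⟨algebraMap R (Localization S) x.1, x.2⟩
      map_add' := fun x y => Subtype.ext (map_add _ _ _)
      map_smul' := fun r x => Subtype.ext (by simp [Algebra.smul_def]) }
  obtain ⟨f, s, hf⟩ := Module.FinitePresentation.exists_lift_of_isLocalizedModule S
    (LocalizedModule.mkLinearMap S E) (g.restrictScalars R ∘ₗ ι)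
  obtain ⟨h, hh⟩ := Module.Baer.of_injective hE a f
  refine ⟨LinearMap.toSpanSingleton (Localization S) _ (IsLocalizedModule.mk'
    (LocalizedModule.mkLinearMap S E) (h 1) s), fun z hz => ?_⟩
  obtain ⟨⟨r, t⟩, hrt⟩ := IsLocalization.surj S z
  have hra : r ∈ a := by
    change algebraMap R (Localization S) r ∈ J
    rw [← hrt]; exact J.mul_mem_right _ hz
  have h1 : (s : R) • g ⟨algebraMap R (Localization S) r, hra⟩ =
      r • LocalizedModule.mkLinearMap S E (h 1) := by
    have := LinearMap.congr_fun hf ⟨r, hra⟩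
    simp only [LinearMap.comp_apply, LinearMap.smul_apply] at this
    rw [← hh r hra, show h r = r • h 1 by rw [← map_smul, smul_eq_mul, mul_one], map_smul] at this
    exact this.symm
  have h2 : algebraMap R (Localization S) t • g ⟨z, hz⟩ =
      g ⟨algebraMap R (Localization S) r, hra⟩ := by
    rw [← map_smul]; congr 1; apply Subtype.ext
    simp [← hrt, mul_comm, Algebra.smul_def]
  rw [← ((IsLocalization.map_units (Localization S) (t * s)).smul_left_cancel),
    LinearMap.toSpanSingleton_apply, smul_smul, Submonoid.coe_mul, map_mul, mul_right_comm,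
    mul_comm _ z, hrt, mul_smul, mul_comm (algebraMap R (Localization S) _), mul_smul, h2,
    algebraMap_smul, algebraMap_smul, algebraMap_smul, h1]
  dsimp only
  rw [← IsLocalizedModule.mk'_cancel' (LocalizedModule.mkLinearMap S E) (h 1) s, Submonoid.smul_def]

end Localization

section Prime

variable {E : Type v} [AddCommGroup E] [Module R E]

/-- Indecomposable injective modules over Noetherian rings are hulls of `R / p`. -/
theorem exists_prime_hull_of_indecomposable [IsNoetherianRing R]
    {E : Type u} [AddCommGroup E] [Module R E]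
    (hE : InjHull.IsIndecomposable R E) (hinj : Module.Injective R E) :
    ∃ (p : Ideal R) (_ : p.IsPrime) (f : (R ⧸ p) →ₗ[R] E), InjHull.IsInjectiveHull f := by
  have := hE.1
  obtain ⟨p, hp⟩ := associatedPrimes.nonempty R E
  obtain ⟨hp, x, hx⟩ := (isAssociatedPrime_iff_exists_injective_linearMap p E).1 hp
  refine ⟨p, hp, x, ⟨⟨hx, fun N hN => indecomposable_uniform hE hinj hN ?_⟩, hinj⟩⟩
  intro hb
  have : Subsingleton (R ⧸ p) := ⟨fun a b => hx (by
    have ha : x a ∈ LinearMap.range x := LinearMap.mem_range_self _ _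
    have hb' : x b ∈ LinearMap.range x := LinearMap.mem_range_self _ _
    rw [hb, Submodule.mem_bot] at ha hb'
    rw [ha, hb'])⟩
  exact hp.ne_top (Submodule.Quotient.subsingleton_iff.1 this)

theorem hull_quotient_prime_indecomposable (p : Ideal R) [p.IsPrime] {E : Type u} [AddCommGroup E]
    [Module R E] {f : (R ⧸ p) →ₗ[R] E} (hf : InjHull.IsInjectiveHull f) :
    InjHull.IsIndecomposable R E := by
  have : Nontrivial E := Function.Injective.nontrivial hf.injective
  refine indecomposable_of_uniform fun N N' hN hN' hbot => ?_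
  obtain ⟨_, ⟨hn, a, rfl⟩, ha0⟩ := Submodule.exists_mem_ne_zero_of_ne_bot (hf.essential N hN)
  obtain ⟨_, ⟨hn', b, rfl⟩, hb0⟩ := Submodule.exists_mem_ne_zero_of_ne_bot (hf.essential N' hN')
  obtain ⟨r, rfl⟩ := Submodule.Quotient.mk_surjective _ a
  obtain ⟨s, rfl⟩ := Submodule.Quotient.mk_surjective _ b
  have h1 : f (Submodule.Quotient.mk (r * s)) ∈ N ⊓ N' := by
    constructor
    · rw [show (Submodule.Quotient.mk (r * s) : R ⧸ p) = s • Submodule.Quotient.mk r by
        rw [← Submodule.Quotient.mk_smul, smul_eq_mul, mul_comm], map_smul]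
      exact N.smul_mem _ hn
    · rw [show (Submodule.Quotient.mk (r * s) : R ⧸ p) = r • Submodule.Quotient.mk s by
        rw [← Submodule.Quotient.mk_smul, smul_eq_mul], map_smul]
      exact N'.smul_mem _ hn'
  rw [hbot, Submodule.mem_bot] at h1
  have h2 : r * s ∈ p := (Submodule.Quotient.mk_eq_zero p).1 (hf.injective (h1.trans (map_zero f).symm))
  rcases Ideal.IsPrime.mem_or_mem inferInstance h2 with h | h
  · exact ha0 (by rw [(Submodule.Quotient.mk_eq_zero p).2 h, map_zero])
  · exact hb0 (by rw [(Submodule.Quotient.mk_eq_zero p).2 h, map_zero])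

theorem hull_residueField_of_hull_quotient (p : Ideal R) [p.IsPrime] {E : Type u} [AddCommGroup E]
    [Module R E] {f : (R ⧸ p) →ₗ[R] E} (hf : InjHull.IsInjectiveHull f) :
    ∃ g : p.ResidueField →ₗ[R] E, InjHull.IsInjectiveHull g := by
  let j : (R ⧸ p) →ₗ[R] p.ResidueField := (IsScalarTower.toAlgHom R (R ⧸ p) p.ResidueField).toLinearMap
  have hj : InjHull.IsEssentialInj j := by
    refine (isEssentialInj_iff j).2
      ⟨IsFractionRing.injective (R ⧸ p) p.ResidueField, fun x hx => ?_⟩
    obtain ⟨⟨a, b⟩, hab⟩ := IsLocalization.surj (nonZeroDivisors (R ⧸ p)) x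
    obtain ⟨c, hc⟩ := Ideal.Quotient.mk_surjective (b : R ⧸ p)
    have hcx : c • x = algebraMap (R ⧸ p) p.ResidueField a := by
      rw [← hab, ← hc, mul_comm, Algebra.smul_def, IsScalarTower.algebraMap_apply R (R ⧸ p)]
      rfl
    refine ⟨c, ⟨a, hcx.symm⟩, fun e => hx ?_⟩
    rw [hcx] at e
    rw [e] at hab
    exact (IsLocalization.map_units p.ResidueField b).mul_left_eq_zero.1 hab
  obtain ⟨g, hg⟩ := hf.isInjective.out j hj.injective f
  have hgj : g ∘ₗ j = f := LinearMap.ext hg
  refine ⟨g, ⟨⟨injective_of_isEssentialInj_comp hj (by rw [hgj]; exact hf.injective),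
    fun N hN hbot => hf.essential N hN (le_bot_iff.1 ?_)⟩, hf.isInjective⟩⟩
  refine le_trans (inf_le_inf_left N ?_) hbot.le
  rw [← hgj]; exact LinearMap.range_comp_le_range j g

end Prime

section Decomposition

open Classical in
theorem exists_indecomposable_injective_submodule [IsNoetherianRing R] {E : Type u} [AddCommGroup E]
    [Module R E] (hE : Module.Injective R E) (hne : Nontrivial E) :
    ∃ H : Submodule R E, InjHull.IsIndecomposable R H ∧ Module.Injective R H := by
  obtain ⟨p, hp⟩ := associatedPrimes.nonempty R E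
  obtain ⟨hp, x, hx⟩ := (isAssociatedPrime_iff_exists_injective_linearMap p E).1 hp
  obtain ⟨H, f, -, hf⟩ := exists_hull_of_embedding hE x hx
  exact ⟨H, hull_quotient_prime_indecomposable p hf, hf.isInjective⟩

open Classical in
theorem exists_decomposition [IsNoetherianRing R] (I : Type u) [AddCommGroup I] [Module R I]
    (hI : Module.Injective R I) :
    ∃ (ι : Type u) (E : ι → Submodule R I), DirectSum.IsInternal E ∧
      ∀ i, InjHull.IsIndecomposable R ↥(E i) ∧ Module.Injective R ↥(E i) := by
  classical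
  obtain ⟨A, ⟨hind, hA⟩, hmax⟩ := zorn_subset {A : Set (Submodule R I) | sSupIndep A ∧
      ∀ H ∈ A, InjHull.IsIndecomposable R H ∧ Module.Injective R H}
    (fun c hc hchain => ⟨⋃₀ c, ⟨iSupIndep_sUnion_of_directed hchain.directedOn
      (fun s hs => (hc hs).1), fun H ⟨s, hs, hH⟩ => (hc hs).2 H hH⟩,
      fun s hs => Set.subset_sUnion_of_mem hs⟩)
  have hindep : iSupIndep (fun i : A => (i : Submodule R I)) :=
    (sSupIndep_iff A).1 hind
  have hinj : Module.Injective R ↥(⨆ i : A, (i : Submodule R I)) :=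
    injective_iSup_of_iSupIndep _ hindep fun i => (hA i i.2).2
  obtain ⟨C, hC⟩ := exists_isCompl _ hinj
  have hC0 : C = ⊥ := by
    by_contra h
    obtain ⟨H, hH1, hH2⟩ := exists_indecomposable_injective_submodule
      (injective_of_isCompl hC.symm hI) (Submodule.nontrivial_iff_ne_bot.2 h)
    let e : H ≃ₗ[R] H.map C.subtype := Submodule.equivMapOfInjective _ C.injective_subtype H
    have hH1' : InjHull.IsIndecomposable R ↥(H.map C.subtype) := by
      refine ⟨@Function.Injective.nontrivial _ _ hH1.1 _ e.injective, fun N N' hNN => ?_⟩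
      have := hH1.2 _ _ (hNN.map (Submodule.orderIsoMapComap e.symm))
      simpa using this
    have hnot : H.map C.subtype ∉ A := fun hmem => by
      have h1 : H.map C.subtype ≤ (⨆ i : A, (i : Submodule R I)) ⊓ C :=
        le_inf (le_iSup (fun i : A => (i : Submodule R I)) ⟨_, hmem⟩) (Submodule.map_subtype_le C H)
      rw [hC.inf_eq_bot, le_bot_iff] at h1
      have := hH1'.1
      exact (Submodule.nontrivial_iff_ne_bot.1 this) h1
    refine hnot (hmax ⟨?_, ?_⟩ (Set.subset_insert _ A) (Set.mem_insert _ _))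
    · have hdis : Disjoint (H.map C.subtype) (sSup A) := by
        refine Disjoint.mono_right ?_ (hC.symm.disjoint.mono_left (Submodule.map_subtype_le C H))
        exact sSup_le fun K hK => le_iSup (fun i : A => (i : Submodule R I)) ⟨K, hK⟩
      intro K hK
      rcases hK with rfl | hK
      · exact hdis.mono_right (sSup_le_sSup (by simp))
      · have h1 : Disjoint K (sSup (A \ {K})) := hind hK
        have h2 : Disjoint (K ⊔ sSup (A \ {K})) (H.map C.subtype) :=
          (hdis.mono_right (sup_le (le_sSup hK) (sSup_le_sSup Set.sdiff_subset))).symm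
        refine (h1.disjoint_sup_right_of_disjoint_sup_left h2).mono_right (sSup_le ?_)
        rintro L ⟨rfl | hL, hne⟩
        · exact le_sup_right
        · exact le_trans (le_sSup (show L ∈ A \ {K} from ⟨hL, hne⟩)) le_sup_left
    · rintro K (rfl | hK)
      · exact ⟨hH1', injective_of_linearEquiv e.symm hH2⟩
      · exact hA K hK
  refine ⟨A, fun i => i.1, ?_, fun i => hA i i.2⟩
  convert (DirectSum.isInternal_submodule_iff_iSupIndep_and_iSup_eq_top
    fun i : A => (i : Submodule R I)).2 ⟨hindep, ?_⟩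
  have := hC.sup_eq_top
  rwa [hC0, sup_bot_eq] at this

end Decomposition

end GrothLib.InjMod
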