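import Groth.Prelude.Def_Wider
import Mathlib.Algebra.Category.ModuleCat.EnoughInjectives
import Mathlib.Algebra.Category.ModuleCat.Injective
import Mathlib.LinearAlgebra.Projection
import Mathlib.CategoryTheory.Preadditive.Injective.Basic

/-! Essential injections and injective hulls of modules. -/

universe u v

open CategoryTheory

namespace GrothLib.InjMod

variable {R : Type u} [CommRing R]

section Essential

variable {M N P : Type v} [AddCommGroup M] [Module R M] [AddCommGroup N] [Module R N]
  [AddCommGroup P] [Module R P]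

theorem isEssentialInj_iff (f : M →ₗ[R] N) :
    InjHull.IsEssentialInj f ↔ Function.Injective f ∧
      ∀ x : N, x ≠ 0 → ∃ r : R, r • x ∈ LinearMap.range f ∧ r • x ≠ 0 := by
  constructor
  · intro h
    refine ⟨h.injective, fun x hx => ?_⟩
    have := h.essential (Submodule.span R {x}) (by simpa using hx)
    obtain ⟨y, hy, hy0⟩ := Submodule.exists_mem_ne_zero_of_ne_bot this
    obtain ⟨r, rfl⟩ := Submodule.mem_span_singleton.1 hy.1
    exact ⟨r, hy.2, hy0⟩
  · rintro ⟨hi, h⟩
    refine ⟨hi, fun K hK hbot => ?_⟩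
    obtain ⟨x, hx, hx0⟩ := Submodule.exists_mem_ne_zero_of_ne_bot hK
    obtain ⟨r, hr, hr0⟩ := h x hx0
    exact hr0 (by
      have : r • x ∈ K ⊓ LinearMap.range f := ⟨K.smul_mem r hx, hr⟩
      rw [hbot] at this
      simpa using this)

theorem isEssentialInj_id : InjHull.IsEssentialInj (LinearMap.id : M →ₗ[R] M) :=
  ⟨Function.injective_id, fun K hK => by simpa using hK⟩

theorem isEssentialInj_comp {f : M →ₗ[R] N} {g : N →ₗ[R] P} (hf : InjHull.IsEssentialInj f)
    (hg : InjHull.IsEssentialInj g) : InjHull.IsEssentialInj (g ∘ₗ f) := by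
  rw [isEssentialInj_iff] at hf hg ⊢
  refine ⟨hg.1.comp hf.1, fun x hx => ?_⟩
  obtain ⟨r, ⟨y, hy⟩, hr0⟩ := hg.2 x hx
  have hy0 : y ≠ 0 := fun h => hr0 (by rw [← hy, h, map_zero])
  obtain ⟨s, ⟨z, hz⟩, hs0⟩ := hf.2 y hy0
  refine ⟨s * r, ⟨z, ?_⟩, ?_⟩
  · rw [LinearMap.comp_apply, hz, map_smul, hy, mul_smul]
  · rw [mul_smul, ← hy, ← map_smul]
    exact fun h => hs0 (hg.1 (by rw [h, map_zero]))

theorem injective_of_isEssentialInj_comp {f : M →ₗ[R] N} (hf : InjHull.IsEssentialInj f)
    {g : N →ₗ[R] P} (h : Function.Injective (g ∘ₗ f)) : Function.Injective g := by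
  rw [← LinearMap.ker_eq_bot]
  by_contra hk
  obtain ⟨y, ⟨hy1, ⟨x, rfl⟩⟩, hy0⟩ :=
    Submodule.exists_mem_ne_zero_of_ne_bot (hf.essential _ hk)
  have : x = 0 := h (by simpa using hy1)
  exact hy0 (by simp [this])

theorem isEssentialInj_of_comp_left {f : M →ₗ[R] N} {g : N →ₗ[R] P}
    (h : InjHull.IsEssentialInj (g ∘ₗ f)) (hg : Function.Injective g) :
    InjHull.IsEssentialInj f := by
  rw [isEssentialInj_iff] at h ⊢
  refine ⟨fun a b e => h.1 (congrArg g e), fun x hx => ?_⟩
  obtain ⟨r, ⟨z, hz⟩, hr0⟩ := h.2 (g x) (fun e => hx (hg (by rw [e, map_zero])))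
  refine ⟨r, ⟨z, hg ?_⟩, fun e => hr0 (by rw [← map_smul, e, map_zero])⟩
  rw [map_smul]; exact hz

theorem isEssentialInj_equiv (e : M ≃ₗ[R] N) : InjHull.IsEssentialInj e.toLinearMap :=
  ⟨e.injective, fun K hK => by simpa using hK⟩

theorem isEssentialInj_subtype_iff (K : Submodule R N) :
    InjHull.IsEssentialInj K.subtype ↔ ∀ x : N, x ≠ 0 → ∃ r : R, r • x ∈ K ∧ r • x ≠ 0 := by
  rw [isEssentialInj_iff, Submodule.range_subtype]
  exact and_iff_right K.injective_subtype

end Essential

section Injective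

variable {M N : Type v} [AddCommGroup M] [Module R M] [AddCommGroup N] [Module R N]

theorem injective_of_retract (i : M →ₗ[R] N) (p : N →ₗ[R] M) (h : p ∘ₗ i = LinearMap.id)
    (hN : Module.Injective R N) : Module.Injective R M where
  out X Y _ _ _ _ f hf g := by
    obtain ⟨l, hl⟩ := hN.out f hf (i ∘ₗ g)
    exact ⟨p ∘ₗ l, fun x => by
      rw [LinearMap.comp_apply, hl]; exact LinearMap.congr_fun h (g x)⟩

theorem injective_of_linearEquiv (e : M ≃ₗ[R] N) (hN : Module.Injective R N) :
    Module.Injective R M :=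
  injective_of_retract e.toLinearMap e.symm.toLinearMap (by ext; simp) hN

theorem exists_retraction (hM : Module.Injective R M) (i : M →ₗ[R] N) (hi : Function.Injective i) :
    ∃ p : N →ₗ[R] M, p ∘ₗ i = LinearMap.id := by
  obtain ⟨p, hp⟩ := hM.out i hi LinearMap.id
  exact ⟨p, LinearMap.ext hp⟩

theorem exists_isCompl_range (hM : Module.Injective R M) (i : M →ₗ[R] N)
    (hi : Function.Injective i) : ∃ C : Submodule R N, IsCompl (LinearMap.range i) C := by
  obtain ⟨p, hp⟩ := exists_retraction hM i hi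
  refine ⟨LinearMap.ker p, IsCompl.of_eq (eq_bot_iff.2 ?_) (eq_top_iff.2 ?_)⟩
  · rintro x ⟨⟨y, rfl⟩, hy⟩
    have h1 := LinearMap.congr_fun hp y
    have h2 : p (i y) = 0 := hy
    simp only [LinearMap.comp_apply, LinearMap.id_apply, h2] at h1
    simp [← h1]
  · intro x _
    refine Submodule.mem_sup.2 ⟨i (p x), ⟨p x, rfl⟩, x - i (p x), ?_, by simp⟩
    have := LinearMap.congr_fun hp (p x)
    simp only [LinearMap.comp_apply, LinearMap.id_apply] at this
    simp [this]

theorem exists_isCompl (K : Submodule R N) (hK : Module.Injective R K) :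
    ∃ C : Submodule R N, IsCompl K C := by
  simpa using exists_isCompl_range hK K.subtype K.injective_subtype

theorem injective_of_isCompl {K C : Submodule R N} (h : IsCompl K C)
    (hN : Module.Injective R N) : Module.Injective R K :=
  injective_of_retract K.subtype (Submodule.projectionOnto K C h) (by ext x; simp) hN

theorem exists_maximal_disjoint (K : Submodule R N) :
    ∃ C : Submodule R N, Maximal (Disjoint K) C := by
  obtain ⟨C, -, hC⟩ := zorn_le_nonempty₀ {C : Submodule R N | Disjoint K C}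
    (fun c hc hchain y hy => ⟨sSup c, (hchain.directedOn.disjoint_sSup_right).2
      (fun _ h => hc h), fun z hz => le_sSup hz⟩) ⊥ disjoint_bot_right
  exact ⟨C, hC⟩

theorem isEssentialInj_mkQ_comp_subtype {K C : Submodule R N} (hC : Maximal (Disjoint K) C) :
    InjHull.IsEssentialInj (C.mkQ ∘ₗ K.subtype) := by
  refine ⟨?_, fun L hL hbot => hL ?_⟩
  · rw [← LinearMap.ker_eq_bot, eq_bot_iff]
    intro x hx
    have h1 : (x : N) ∈ C := by simpa using hx
    have h2 : (x : N) ∈ K ⊓ C := ⟨x.2, h1⟩
    rw [hC.1.eq_bot] at h2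
    simpa using h2
  · have hle : C ≤ L.comap C.mkQ := fun x hx => by simp [(Submodule.Quotient.mk_eq_zero C).2 hx]
    have hdis : Disjoint K (L.comap C.mkQ) := by
      rw [Submodule.disjoint_def]
      intro x hxK hxL
      have h1 : C.mkQ x ∈ L ⊓ LinearMap.range (C.mkQ ∘ₗ K.subtype) := ⟨hxL, ⟨⟨x, hxK⟩, rfl⟩⟩
      rw [hbot] at h1
      have h2 : x ∈ C := by simpa using h1
      exact Submodule.disjoint_def.1 hC.1 x hxK h2
    have heq := le_antisymm (hC.2 hdis hle) hle
    have := congrArg (Submodule.map C.mkQ) heq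
    rw [Submodule.map_comap_eq_of_surjective (Submodule.mkQ_surjective C)] at this
    rw [this]
    simp

theorem injective_of_no_essential_extension (hN : Module.Injective R N) (E : Submodule R N)
    (hmax : ∀ E' : Submodule R N, E ≤ E' →
      (∀ L : Submodule R N, L ≤ E' → L ≠ ⊥ → L ⊓ E ≠ ⊥) → E' = E) :
    Module.Injective R E := by
  obtain ⟨C, hC⟩ := exists_maximal_disjoint E
  have hess := isEssentialInj_mkQ_comp_subtype hC
  obtain ⟨h, hh⟩ := hN.out _ hess.injective E.subtype
  have hinj : Function.Injective h := injective_of_isEssentialInj_comp hess (fun a b e => by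
    simp only [LinearMap.comp_apply] at e
    have ha := hh a; have hb := hh b
    simp only [LinearMap.comp_apply] at ha hb
    rw [ha, hb] at e
    exact Subtype.ext e)
  have hrange : LinearMap.range h = E := by
    refine hmax _ (fun x hx => ⟨C.mkQ x, hh ⟨x, hx⟩⟩) (fun L hL hL0 hbot => ?_)
    have hpre : L.comap h ≠ ⊥ := fun e => hL0 (by
      rw [← Submodule.map_comap_eq_of_le hL, e, Submodule.map_bot])
    obtain ⟨y, ⟨hyL, ⟨a, rfl⟩⟩, hy0⟩ :=
      Submodule.exists_mem_ne_zero_of_ne_bot (hess.essential _ hpre)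
    have h1 : (a : N) ∈ L ⊓ E := ⟨by
      have := hh a; simp only [LinearMap.comp_apply] at this
      simp only [LinearMap.comp_apply, SetLike.mem_coe, Submodule.mem_comap] at hyL
      rw [this] at hyL; exact hyL, a.2⟩
    rw [hbot] at h1
    exact hy0 (by simp at h1; simp [h1])
  let p : N →ₗ[R] E := LinearMap.codRestrict E (h ∘ₗ C.mkQ) (fun x => by
    have h1 : h (C.mkQ x) ∈ LinearMap.range h := LinearMap.mem_range_self _ _
    rw [hrange] at h1; exact h1)
  refine injective_of_retract E.subtype p (LinearMap.ext fun x => Subtype.ext ?_) hN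
  exact hh x

end Injective

section Hull

variable {M : Type v} [AddCommGroup M] [Module R M]

theorem exists_maximal_essential {I : Type v} [AddCommGroup I] [Module R I] (i : M →ₗ[R] I) :
    ∃ E : Submodule R I, LinearMap.range i ≤ E ∧
      (∀ L : Submodule R I, L ≤ E → L ≠ ⊥ → L ⊓ LinearMap.range i ≠ ⊥) ∧
      ∀ E' : Submodule R I, E ≤ E' →
        (∀ L : Submodule R I, L ≤ E' → L ≠ ⊥ → L ⊓ E ≠ ⊥) → E' = E := by
  obtain ⟨E, hle, hmax⟩ := zorn_le_nonempty₀
    {E : Submodule R I | LinearMap.range i ≤ E ∧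
      ∀ L : Submodule R I, L ≤ E → L ≠ ⊥ → L ⊓ LinearMap.range i ≠ ⊥}
    (fun c hc hchain y hy => by
      refine ⟨sSup c, ⟨le_trans (hc hy).1 (le_sSup hy), fun L hL hL0 hbot => ?_⟩,
        fun z hz => le_sSup hz⟩
      obtain ⟨x, hx, hx0⟩ := Submodule.exists_mem_ne_zero_of_ne_bot hL0
      obtain ⟨E, hE, hxE⟩ := (Submodule.mem_sSup_of_directed ⟨y, hy⟩ hchain.directedOn).1 (hL hx)
      refine (hc hE).2 (Submodule.span R {x}) ((Submodule.span_singleton_le_iff_mem ..).2 hxE)
        (by simpa using hx0) (le_bot_iff.1 ?_)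
      exact le_trans (inf_le_inf_right _ ((Submodule.span_singleton_le_iff_mem ..).2 hx)) hbot.le)
    (LinearMap.range i) ⟨le_rfl, fun L hL hL0 => by rwa [inf_eq_left.2 hL]⟩
  refine ⟨E, hmax.1.1, hmax.1.2, fun E' hEE' h' => le_antisymm (hmax.2 ⟨le_trans hmax.1.1 hEE',
    fun L hL hL0 hbot => ?_⟩ hEE') hEE'⟩
  refine hmax.1.2 (L ⊓ E) inf_le_right (h' L hL hL0) (le_bot_iff.1 ?_)
  exact le_trans (inf_le_inf_right _ inf_le_left) hbot.le

theorem exists_hull_of_embedding {I : Type v} [AddCommGroup I] [Module R I]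
    (hI : Module.Injective R I) (i : M →ₗ[R] I) (hi : Function.Injective i) :
    ∃ (E : Submodule R I) (f : M →ₗ[R] E), E.subtype ∘ₗ f = i ∧ InjHull.IsInjectiveHull f := by
  obtain ⟨E, hle, hess, hmax⟩ := exists_maximal_essential i
  refine ⟨E, i.codRestrict E (fun x => hle ⟨x, rfl⟩), rfl, ⟨⟨?_, fun L hL hbot => ?_⟩, ?_⟩⟩
  · exact fun a b e => hi (congrArg Subtype.val e)
  · refine hess (L.map E.subtype) (Submodule.map_subtype_le E L) ?_ (le_bot_iff.1 ?_)
    · exact fun e => hL (Submodule.map_injective_of_injective E.injective_subtype (by simpa using e))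
    · rintro _ ⟨⟨y, hy, rfl⟩, ⟨x, hx⟩⟩
      have h1 : y ∈ L ⊓ LinearMap.range (i.codRestrict E (fun x => hle ⟨x, rfl⟩)) :=
        ⟨hy, ⟨x, Subtype.ext hx⟩⟩
      rw [hbot] at h1
      simp at h1
      simp [h1]
  · exact injective_of_no_essential_extension hI E hmax

/-- Two injective hulls of the same module are isomorphic under it. -/
theorem hull_unique {E E' : Type v} [AddCommGroup E] [Module R E] [AddCommGroup E'] [Module R E']
    {f : M →ₗ[R] E} (hf : InjHull.IsInjectiveHull f) {g : M →ₗ[R] E'}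
    (hg : InjHull.IsInjectiveHull g) : ∃ e : E ≃ₗ[R] E', e.toLinearMap ∘ₗ f = g := by
  obtain ⟨h, hh⟩ := hg.isInjective.out f hf.injective g
  have hcomp : h ∘ₗ f = g := LinearMap.ext hh
  have hinj : Function.Injective h := injective_of_isEssentialInj_comp hf.toIsEssentialInj
    (by rw [hcomp]; exact hg.injective)
  obtain ⟨C, hC⟩ := exists_isCompl_range hf.isInjective h hinj
  have hC0 : C = ⊥ := by
    by_contra hC0
    refine hg.essential C hC0 (le_bot_iff.1 ?_)
    refine le_trans (inf_le_inf_left C ?_) hC.symm.inf_eq_bot.le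
    rw [← hcomp]
    exact LinearMap.range_comp_le_range f h
  have hsurj : Function.Surjective h := by
    rw [← LinearMap.range_eq_top]
    have := hC.sup_eq_top
    rwa [hC0, sup_bot_eq] at this
  exact ⟨LinearEquiv.ofBijective h ⟨hinj, hsurj⟩, LinearMap.ext hh⟩

/-- A hull maps injectively into any injective module receiving an injection of the module. -/
theorem hull_embeds {E I : Type v} [AddCommGroup E] [Module R E] [AddCommGroup I] [Module R I]
    {f : M →ₗ[R] E} (hf : InjHull.IsInjectiveHull f) (hI : Module.Injective R I) {i : M →ₗ[R] I}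
    (hi : Function.Injective i) : ∃ a : E →ₗ[R] I, Function.Injective a ∧ a ∘ₗ f = i := by
  obtain ⟨a, ha⟩ := hI.out f hf.injective i
  refine ⟨a, injective_of_isEssentialInj_comp hf.toIsEssentialInj ?_, LinearMap.ext ha⟩
  rw [show a ∘ₗ f = i from LinearMap.ext ha]; exact hi

end Hull

section Universe

/-- Every module embeds into an injective module in the same universe. -/
theorem exists_embedding_injective (M : Type u) [AddCommGroup M] [Module R M] :
    ∃ (I : Type u) (_ : AddCommGroup I) (_ : Module R I) (i : M →ₗ[R] I),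
      Module.Injective R I ∧ Function.Injective i := by
  have : EnoughInjectives (ModuleCat.{u} R) := inferInstance
  let P := (EnoughInjectives.presentation (ModuleCat.of R M)).some
  refine ⟨P.J, inferInstance, inferInstance, P.f.hom, ?_, (ModuleCat.mono_iff_injective _).1 P.mono⟩
  have : CategoryTheory.Injective (ModuleCat.of R P.J) := P.injective
  exact Module.injective_module_of_injective_object R P.J

theorem exists_injective_hull (M : Type u) [AddCommGroup M] [Module R M] :
    ∃ (E : Type u) (_ : AddCommGroup E) (_ : Module R E) (f : M →ₗ[R] E),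
      InjHull.IsInjectiveHull f := by
  obtain ⟨I, _, _, i, hI, hi⟩ := exists_embedding_injective (R := R) M
  obtain ⟨E, f, -, hf⟩ := exists_hull_of_embedding hI i hi
  exact ⟨E, inferInstance, inferInstance, f, hf⟩

end Universe

section Indecomposable

variable {E : Type v} [AddCommGroup E] [Module R E]

theorem exists_injective_essential_over (hE : Module.Injective R E) (N : Submodule R E) :
    ∃ H : Submodule R E, N ≤ H ∧ Module.Injective R H ∧
      ∀ L : Submodule R E, L ≤ H → L ≠ ⊥ → L ⊓ N ≠ ⊥ := by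
  obtain ⟨H, hle, hess, hmax⟩ := exists_maximal_essential N.subtype
  rw [Submodule.range_subtype] at hle hess
  exact ⟨H, hle, injective_of_no_essential_extension hE H hmax, hess⟩

theorem indecomposable_uniform (hE : InjHull.IsIndecomposable R E) (hinj : Module.Injective R E)
    {N N' : Submodule R E} (hN : N ≠ ⊥) (hN' : N' ≠ ⊥) : N ⊓ N' ≠ ⊥ := by
  obtain ⟨H, hle, hH, hess⟩ := exists_injective_essential_over hinj N
  obtain ⟨C, hC⟩ := exists_isCompl H hH
  rcases hE.2 H C hC with h | h
  · exact absurd (le_bot_iff.1 (h ▸ hle)) hN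
  · have : H = ⊤ := by
      have := hC.sup_eq_top
      rwa [h, sup_bot_eq] at this
    rw [inf_comm]
    exact hess N' (this ▸ le_top) hN'

theorem indecomposable_of_uniform [Nontrivial E]
    (h : ∀ N N' : Submodule R E, N ≠ ⊥ → N' ≠ ⊥ → N ⊓ N' ≠ ⊥) :
    InjHull.IsIndecomposable R E := by
  refine ⟨inferInstance, fun N N' hc => ?_⟩
  by_contra hh
  push Not at hh
  exact h N N' hh.1 hh.2 hc.inf_eq_bot

end Indecomposable

end GrothLib.InjMod
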