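import Groth.Agent.Lib.InjMod.Noetherian
import Groth.Agent.Lib.LC.Artinian
import Mathlib.RingTheory.Length
import Mathlib.RingTheory.FiniteLength

/-! Matlis duality: socle, cogenerator property, lengths, biduality. -/

universe u

namespace GrothLib.Matlis

open GrothLib.InjMod

variable {R : Type u} [CommRing R]

section Hull

variable {m : Ideal R} {E : Type u} [AddCommGroup E] [Module R E] {f : (R ⧸ m) →ₗ[R] E}

theorem range_le_torsionBy (f : (R ⧸ m) →ₗ[R] E) : LinearMap.range f ≤ LocCoh.torsionBy m E := by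
  rintro _ ⟨z, rfl⟩
  refine (Submodule.mem_torsionBySet_iff _ _).2 fun a => ?_
  obtain ⟨r, rfl⟩ := Submodule.Quotient.mk_surjective _ z
  rw [← map_smul, ← Submodule.Quotient.mk_smul, smul_eq_mul,
    (Submodule.Quotient.mk_eq_zero m).2 (show (a : R) * r ∈ m from Ideal.mul_mem_right r m a.2), map_zero]

theorem exists_inv_mod [hm : m.IsMaximal] {r : R} (hr : r ∉ m) : ∃ s : R, s * r - 1 ∈ m := by
  obtain ⟨s, i, hi, h⟩ := hm.exists_inv hr
  exact ⟨s, by rw [← h, sub_add_cancel_left]; exact neg_mem hi⟩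

/-- The socle of a hull of `R/m` is the image of `R/m`. -/
theorem torsionBy_eq_range [m.IsMaximal] (hf : InjHull.IsEssentialInj f) :
    LocCoh.torsionBy m E = LinearMap.range f := by
  refine le_antisymm (fun x hx => ?_) (range_le_torsionBy f)
  by_cases hx0 : x = 0
  · rw [hx0]; exact zero_mem _
  obtain ⟨r, hr, hr0⟩ := (isEssentialInj_iff f).1 hf |>.2 x hx0
  have hrm : r ∉ m := fun h => hr0 ((Submodule.mem_torsionBySet_iff _ _).1 hx ⟨r, h⟩)
  obtain ⟨s, hs⟩ := exists_inv_mod hrm
  have h1 := (Submodule.mem_torsionBySet_iff _ _).1 hx ⟨_, hs⟩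
  rw [sub_smul, one_smul, mul_smul, sub_eq_zero] at h1
  rw [← h1]
  exact Submodule.smul_mem _ s hr

theorem isSimpleModule_torsionBy [m.IsMaximal] (hf : InjHull.IsEssentialInj f) :
    IsSimpleModule R (LocCoh.torsionBy m E) := by
  rw [torsionBy_eq_range hf]
  haveI : IsSimpleModule R (R ⧸ m) := isSimpleModule_iff_isCoatom.2 (Ideal.isMaximal_def.1 ‹_›)
  exact IsSimpleModule.congr (LinearEquiv.ofInjective f hf.injective).symm

theorem isPowerTorsion_of_hull [IsNoetherianRing R] (hf : InjHull.IsInjectiveHull f) :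
    LocCoh.IsPowerTorsion m E := by
  obtain ⟨C, hC⟩ := exists_isCompl _ (injective_iSup_torsionBySet_pow hf.isInjective m)
  have hrange : LinearMap.range f ≤
      ⨆ n : ℕ, Submodule.torsionBySet R E ((m ^ n : Ideal R) : Set R) := fun x hx => by
    rw [mem_iSup_torsionBySet_pow]
    refine ⟨1, fun a ha => (Submodule.mem_torsionBySet_iff _ _).1 (range_le_torsionBy f hx) ⟨a, ?_⟩⟩
    rwa [pow_one] at ha
  have hC0 : C = ⊥ := by
    by_contra hC0
    exact hf.essential C hC0
      (le_bot_iff.1 (le_trans (inf_le_inf_left C hrange) hC.symm.inf_eq_bot.le))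
  have htop := hC.sup_eq_top
  rw [hC0, sup_bot_eq] at htop
  intro x
  exact (mem_iSup_torsionBySet_pow _ x).1 (htop ▸ Submodule.mem_top)

theorem isArtinian_hull [IsNoetherianRing R] [m.IsMaximal] (hf : InjHull.IsInjectiveHull f) :
    IsArtinian R E := by
  haveI := isSimpleModule_torsionBy hf.toIsEssentialInj
  haveI : IsArtinian R (LocCoh.torsionBy m E) :=
    (isFiniteLength_iff_isNoetherian_isArtinian.1
      (Module.length_ne_top_iff.1 (by rw [Module.length_eq_one]; exact ENat.one_ne_top))).2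
  exact LC.isArtinian_of_isPowerTorsion (IsNoetherian.noetherian m) (isPowerTorsion_of_hull hf)

end Hull

/-- `Hom(R/J, M) ≅ M[J]`. -/
noncomputable def homQuotEquiv (J : Ideal R) (M : Type u) [AddCommGroup M] [Module R M] :
    ((R ⧸ J) →ₗ[R] M) ≃ₗ[R] LocCoh.torsionBy J M where
  toFun φ := ⟨φ (Submodule.Quotient.mk 1), (Submodule.mem_torsionBySet_iff _ _).2 fun a => by
    rw [← map_smul, ← Submodule.Quotient.mk_smul, smul_eq_mul,
      (Submodule.Quotient.mk_eq_zero J).2 (show (a : R) * 1 ∈ J by rw [mul_one]; exact a.2), map_zero]⟩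
  map_add' _ _ := rfl
  map_smul' _ _ := rfl
  invFun x := Submodule.liftQ J (LinearMap.toSpanSingleton R M x) fun a ha =>
    LinearMap.mem_ker.2 ((Submodule.mem_torsionBySet_iff _ _).1 x.2 ⟨a, ha⟩)
  left_inv φ := Submodule.linearMap_qext _ (LinearMap.ext_ring (by
    show (1 : R) • φ (Submodule.Quotient.mk 1) = φ (Submodule.Quotient.mk 1)
    rw [one_smul]))
  right_inv x := Subtype.ext (one_smul R (x : M))

/-- Nonzero elements of a power torsion module have a nonzero multiple in the socle. -/
theorem exists_smul_mem_socle {J : Ideal R} {M : Type u} [AddCommGroup M] [Module R M]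
    (hM : LocCoh.IsPowerTorsion J M) {x : M} (hx : x ≠ 0) :
    ∃ a : R, a • x ∈ LocCoh.torsionBy J M ∧ a • x ≠ 0 := by
  classical
  have h : ∃ n, ∀ a ∈ J ^ n, a • x = 0 := hM x
  obtain ⟨k, hk⟩ : ∃ k, Nat.find h = k + 1 := by
    refine Nat.exists_eq_succ_of_ne_zero fun h0 => hx ?_
    have := Nat.find_spec h 1 (by rw [h0, pow_zero, Ideal.one_eq_top]; trivial)
    rwa [one_smul] at this
  have hk' := Nat.find_min h (show k < Nat.find h by omega)
  push Not at hk'
  obtain ⟨a, ha, ha0⟩ := hk'
  refine ⟨a, (Submodule.mem_torsionBySet_iff _ _).2 fun b => ?_, ha0⟩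
  rw [smul_smul]
  refine Nat.find_spec h _ ?_
  rw [hk, pow_succ', ]
  exact Ideal.mul_mem_mul b.2 ha

theorem injective_of_socle {J : Ideal R} {M N : Type u} [AddCommGroup M] [Module R M]
    [AddCommGroup N] [Module R N] (hM : LocCoh.IsPowerTorsion J M) (g : M →ₗ[R] N)
    (hg : ∀ x ∈ LocCoh.torsionBy J M, g x = 0 → x = 0) : Function.Injective g := by
  rw [injective_iff_map_eq_zero]
  intro x hx
  by_contra hx0
  obtain ⟨a, ha, ha0⟩ := exists_smul_mem_socle hM hx0
  exact ha0 (hg _ ha (by rw [map_smul, hx, smul_zero]))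

section Local

variable [IsLocalRing R] {E : Type u} [AddCommGroup E] [Module R E]
  {f : IsLocalRing.ResidueField R →ₗ[R] E}

local notation "𝔪" => IsLocalRing.maximalIdeal R

/-- `E` is a cogenerator. -/
theorem exists_apply_ne_zero (hf : InjHull.IsInjectiveHull f) {M : Type u} [AddCommGroup M]
    [Module R M] {x : M} (hx : x ≠ 0) : ∃ φ : M →ₗ[R] E, φ x ≠ 0 := by
  let t : (R ⧸ LinearMap.ker (LinearMap.toSpanSingleton R M x)) →ₗ[R] M :=
    Submodule.liftQ _ (LinearMap.toSpanSingleton R M x) le_rfl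
  have hle : LinearMap.ker (LinearMap.toSpanSingleton R M x) ≤ 𝔪 :=
    IsLocalRing.le_maximalIdeal fun h => hx
      ((one_smul R x).symm.trans (LinearMap.mem_ker.1 (h ▸ Submodule.mem_top : (1 : R) ∈ _)))
  let q : (R ⧸ LinearMap.ker (LinearMap.toSpanSingleton R M x)) →ₗ[R] (R ⧸ 𝔪) :=
    Submodule.factor hle
  obtain ⟨φ, hφ⟩ := hf.isInjective.out t
    (LinearMap.ker_eq_bot.1 (Submodule.ker_liftQ_eq_bot _ _ _ le_rfl)) (f ∘ₗ q)
  refine ⟨φ, fun h => ?_⟩
  have h1 := hφ (Submodule.Quotient.mk 1)
  rw [show t (Submodule.Quotient.mk 1) = x from one_smul R x, h] at h1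
  have h2 : Submodule.Quotient.mk (p := 𝔪) (1 : R) = 0 :=
    hf.injective (h1.symm.trans (map_zero f).symm)
  exact (IsLocalRing.maximalIdeal.isMaximal R).ne_top
    ((Ideal.eq_top_iff_one _).2 ((Submodule.Quotient.mk_eq_zero _).1 h2))

theorem applyₗ_injective (hf : InjHull.IsInjectiveHull f) (M : Type u) [AddCommGroup M]
    [Module R M] : Function.Injective (LinearMap.applyₗ : M →ₗ[R] (M →ₗ[R] E) →ₗ[R] E) := by
  rw [injective_iff_map_eq_zero]
  intro x hx
  by_contra hx0
  obtain ⟨φ, hφ⟩ := exists_apply_ne_zero hf hx0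
  exact hφ (LinearMap.congr_fun hx φ)

theorem annihilator_dual (hf : InjHull.IsInjectiveHull f) (M : Type u) [AddCommGroup M]
    [Module R M] : Module.annihilator R M = Module.annihilator R (M →ₗ[R] E) := by
  refine le_antisymm (fun a ha => Module.mem_annihilator.2 fun φ => LinearMap.ext fun x => ?_)
    fun a ha => Module.mem_annihilator.2 fun x => ?_
  · rw [LinearMap.smul_apply, ← map_smul, Module.mem_annihilator.1 ha, map_zero, LinearMap.zero_apply]
  · refine applyₗ_injective hf M ((LinearMap.ext fun φ => ?_).trans (map_zero _).symm)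
    show φ (a • x) = 0
    rw [map_smul]
    exact LinearMap.congr_fun (Module.mem_annihilator.1 ha φ) x

theorem lcomp_surjective (hE : Module.Injective R E) {M N : Type u} [AddCommGroup M] [Module R M]
    [AddCommGroup N] [Module R N] (g : M →ₗ[R] N) (hg : Function.Injective g) :
    Function.Surjective (LinearMap.lcomp R E g) := fun φ => by
  obtain ⟨ψ, hψ⟩ := hE.out g hg φ
  exact ⟨ψ, LinearMap.ext hψ⟩

theorem length_linearMap_residueField (hf : InjHull.IsInjectiveHull f) :
    Module.length R ((R ⧸ 𝔪) →ₗ[R] E) = 1 := by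
  haveI := isSimpleModule_torsionBy (m := 𝔪) hf.toIsEssentialInj
  rw [(homQuotEquiv 𝔪 E).length_eq]
  exact Module.length_eq_one _ _

theorem length_linearMap_simple (hf : InjHull.IsInjectiveHull f) (S : Type u) [AddCommGroup S]
    [Module R S] [IsSimpleModule R S] : Module.length R (S →ₗ[R] E) = 1 := by
  obtain ⟨I, hI, ⟨e⟩⟩ := isSimpleModule_iff_quot_maximal.1 ‹IsSimpleModule R S›
  rw [IsLocalRing.eq_maximalIdeal hI] at e
  rw [(LinearEquiv.arrowCongr e (LinearEquiv.refl R E)).length_eq]
  exact length_linearMap_residueField hf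

theorem length_linearMap (hf : InjHull.IsInjectiveHull f) {M : Type u} [AddCommGroup M] [Module R M]
    (hM : IsFiniteLength R M) : Module.length R (M →ₗ[R] E) = Module.length R M := by
  induction hM with
  | @of_subsingleton M _ _ _ =>
    haveI : Subsingleton (M →ₗ[R] E) :=
      ⟨fun a b => LinearMap.ext fun x => by rw [Subsingleton.elim x 0, map_zero, map_zero]⟩
    rw [Module.length_eq_zero_iff.2 ‹Subsingleton (M →ₗ[R] E)›, Module.length_eq_zero_iff.2 ‹Subsingleton M›]
  | @of_simple_quotient M _ _ N _ hN ih =>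
    rw [Module.length_eq_add_of_exact N.subtype N.mkQ N.injective_subtype N.mkQ_surjective
        (LinearMap.exact_subtype_mkQ N),
      Module.length_eq_add_of_exact (LinearMap.lcomp R E N.mkQ) (LinearMap.lcomp R E N.subtype)
        (LinearMap.lcomp_injective_of_surjective _ N.mkQ_surjective)
        (lcomp_surjective hf.isInjective _ N.injective_subtype) ?_,
      length_linearMap_simple hf (M ⧸ N), Module.length_eq_one R (M ⧸ N), ih, add_comm]
    intro φ
    constructor
    · intro h
      exact ⟨N.liftQ φ fun x hx => LinearMap.mem_ker.2 (LinearMap.congr_fun h ⟨x, hx⟩),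
        LinearMap.ext fun x => rfl⟩
    · rintro ⟨ψ, rfl⟩
      refine LinearMap.ext fun x => ?_
      show ψ (Submodule.Quotient.mk (x : M)) = 0
      rw [(Submodule.Quotient.mk_eq_zero N).2 x.2, map_zero]

theorem surjective_of_length_eq {M N : Type u} [AddCommGroup M] [Module R M] [AddCommGroup N]
    [Module R N] (g : M →ₗ[R] N) (hg : Function.Injective g)
    (h : Module.length R M = Module.length R N) (hfin : Module.length R M ≠ ⊤) :
    Function.Surjective g := by
  obtain ⟨_, _⟩ := isFiniteLength_iff_isNoetherian_isArtinian.1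
    (Module.length_ne_top_iff.1 (h ▸ hfin : Module.length R N ≠ ⊤))
  by_contra hs
  have := Submodule.length_lt (R := R) (N := LinearMap.range g) (fun h' => hs (LinearMap.range_eq_top.1 h'))
  rw [← (LinearEquiv.ofInjective g hg).length_eq, h] at this
  exact lt_irrefl _ this

theorem applyₗ_bijective (hf : InjHull.IsInjectiveHull f) {M : Type u} [AddCommGroup M]
    [Module R M] (hM : IsFiniteLength R M) :
    Function.Bijective (LinearMap.applyₗ : M →ₗ[R] (M →ₗ[R] E) →ₗ[R] E) := by
  have h1 := length_linearMap hf hM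
  have hfin : Module.length R M ≠ ⊤ := Module.length_ne_top_iff.2 hM
  have h2 := length_linearMap hf (Module.length_ne_top_iff.1 (h1 ▸ hfin :
    Module.length R (M →ₗ[R] E) ≠ ⊤))
  exact ⟨applyₗ_injective hf M,
    surjective_of_length_eq _ (applyₗ_injective hf M) (h2.trans h1).symm hfin⟩

theorem isArtinian_dual [IsNoetherianRing R] (hf : InjHull.IsInjectiveHull f) (M : Type u)
    [AddCommGroup M] [Module R M] [Module.Finite R M] : IsArtinian R (M →ₗ[R] E) := by
  haveI : IsArtinian R E := isArtinian_hull (m := 𝔪) hf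
  obtain ⟨n, π, hπ⟩ := Module.Finite.exists_fin' R M
  haveI : IsArtinian R ((Fin n → R) →ₗ[R] E) := isArtinian_of_linearEquiv (Module.piEquiv (Fin n) R E)
  exact isArtinian_of_injective (LinearMap.lcomp R E π)
    (LinearMap.lcomp_injective_of_surjective _ hπ)

end Local

end GrothLib.Matlis
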