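import Groth.Agent.Lib.InjMod.Essential
import Groth.Prelude.Def_Wider

/-! Injective hulls over a quotient ring. -/

universe u

namespace GrothLib.InjMod

variable {R : Type u} [CommRing R] (b : Ideal R) {M E : Type u} [AddCommGroup M] [Module R M]
  [Module (R ⧸ b) M] [IsScalarTower R (R ⧸ b) M] [AddCommGroup E] [Module R E]

theorem smul_eq_zero_of_mem {r : R} (hr : r ∈ b) (x : M) : r • x = 0 := by
  rw [← one_smul (R ⧸ b) x, ← smul_assoc, Algebra.smul_def, mul_one,
    Ideal.Quotient.algebraMap_eq, Ideal.Quotient.eq_zero_iff_mem.2 hr, zero_smul]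

theorem injective_torsionBy (hE : Module.Injective R E) :
    Module.Injective (R ⧸ b) (LocCoh.torsionBy b E) := by
  constructor
  intro X Y _ _ _ _ i hi g
  letI : Module R X := Module.compHom X (Ideal.Quotient.mk b)
  haveI : IsScalarTower R (R ⧸ b) X := IsScalarTower.of_algebraMap_smul fun _ _ => rfl
  letI : Module R Y := Module.compHom Y (Ideal.Quotient.mk b)
  haveI : IsScalarTower R (R ⧸ b) Y := IsScalarTower.of_algebraMap_smul fun _ _ => rfl
  obtain ⟨h, hh⟩ := hE.out (i.restrictScalars R) hi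
    ((LocCoh.torsionBy b E).subtype ∘ₗ g.restrictScalars R)
  have hmem : ∀ y, h y ∈ LocCoh.torsionBy b E := fun y =>
    (Submodule.mem_torsionBySet_iff _ _).2 fun a => by
      rw [← map_smul, smul_eq_zero_of_mem b a.2, map_zero]
  refine ⟨{ toFun := fun y => ⟨h y, hmem y⟩
            map_add' := fun y z => Subtype.ext (map_add h y z)
            map_smul' := fun c y => ?_ }, fun x => Subtype.ext (hh x)⟩
  obtain ⟨r, rfl⟩ := Ideal.Quotient.mk_surjective c
  exact Subtype.ext (map_smul h r y)

theorem exists_hull_torsionBy {f : M →ₗ[R] E} (hf : InjHull.IsInjectiveHull f) :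
    ∃ g : M →ₗ[R ⧸ b] ↥(LocCoh.torsionBy b E), InjHull.IsInjectiveHull g ∧
      ∀ x : M, ((g x : LocCoh.torsionBy b E) : E) = f x := by
  have hmem : ∀ x, f x ∈ LocCoh.torsionBy b E := fun x =>
    (Submodule.mem_torsionBySet_iff _ _).2 fun a => by
      rw [← map_smul, smul_eq_zero_of_mem b a.2, map_zero]
  let g : M →ₗ[R ⧸ b] ↥(LocCoh.torsionBy b E) :=
    { toFun := fun x => ⟨f x, hmem x⟩
      map_add' := fun y z => Subtype.ext (map_add f y z)
      map_smul' := fun c y => by
        obtain ⟨r, rfl⟩ := Ideal.Quotient.mk_surjective c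
        refine Subtype.ext ?_
        show f (Ideal.Quotient.mk b r • y) = r • f y
        rw [← map_smul, ← Ideal.Quotient.algebraMap_eq, algebraMap_smul] }
  refine ⟨g, ⟨(isEssentialInj_iff g).2 ⟨fun x y h => hf.injective (congrArg Subtype.val h),
    fun x hx => ?_⟩, injective_torsionBy b hf.isInjective⟩, fun x => rfl⟩
  obtain ⟨r, ⟨z, hz⟩, hr⟩ := ((isEssentialInj_iff f).1 hf.toIsEssentialInj).2 (x : E)
    (fun h => hx (Subtype.ext h))
  exact ⟨Ideal.Quotient.mk b r, ⟨z, Subtype.ext hz⟩, fun h => hr (congrArg Subtype.val h)⟩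

end GrothLib.InjMod
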