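import Groth.Agent.Lib.InjMod.Matlis
import Mathlib.RingTheory.SimpleModule.InjectiveProjective
import Mathlib.Algebra.Category.ModuleCat.ChangeOfRings
import Mathlib.Algebra.Category.ModuleCat.Injective

/-! # Hulls of the residue field from the socle -/

set_option autoImplicit false
universe u

namespace GrothLib.InjMod

open GrothLib.Matlis

variable {A : Type u} [CommRing A] [IsLocalRing A]

/-- A power torsion module whose socle is `k` is an essential extension of `k`. -/
theorem exists_essential_of_socle {I : Type u} [AddCommGroup I] [Module A I]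
    (ha : LocCoh.IsPowerTorsion (IsLocalRing.maximalIdeal A) I)
    (e : (IsLocalRing.ResidueField A →ₗ[A] I) ≃ₗ[A] IsLocalRing.ResidueField A) :
    ∃ f : IsLocalRing.ResidueField A →ₗ[A] I, InjHull.IsEssentialInj f ∧
      ∀ x ∈ LocCoh.torsionBy (IsLocalRing.maximalIdeal A) I, x ∈ LinearMap.range f := by
  let f := e.symm (IsLocalRing.residue A 1)
  have hf0 : f ≠ 0 := fun h => by
    have h' := congrArg e h
    rw [e.apply_symm_apply, map_zero, map_one] at h'
    exact one_ne_zero h'
  have hinj : Function.Injective f := by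
    haveI : IsSimpleModule A (IsLocalRing.ResidueField A) :=
      isSimpleModule_iff_isCoatom.2 (Ideal.isMaximal_def.1 (IsLocalRing.maximalIdeal.isMaximal A))
    exact (LinearMap.injective_or_eq_zero f).resolve_right hf0
  have hs : ∀ x ∈ LocCoh.torsionBy (IsLocalRing.maximalIdeal A) I, x ∈ LinearMap.range f := by
    intro x hx
    let φ := (homQuotEquiv (IsLocalRing.maximalIdeal A) I).symm ⟨x, hx⟩
    obtain ⟨r, hr⟩ := IsLocalRing.residue_surjective (e φ)
    have hφ : φ = r • f := e.injective (by
      rw [map_smul, e.apply_symm_apply, ← hr, Algebra.smul_def, map_one, mul_one]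
      rfl)
    have hx' : φ (IsLocalRing.residue A 1) = x := congrArg Subtype.val
      ((homQuotEquiv (IsLocalRing.maximalIdeal A) I).apply_symm_apply ⟨x, hx⟩)
    exact ⟨r • IsLocalRing.residue A 1, (f.map_smul r _).trans ((LinearMap.congr_fun hφ _).symm.trans hx')⟩
  refine ⟨f, ⟨hinj, fun N hN hbot => ?_⟩, hs⟩
  obtain ⟨x, hxN, hx⟩ := Submodule.exists_mem_ne_zero_of_ne_bot hN
  obtain ⟨a, hat, ha0⟩ := exists_smul_mem_socle ha hx
  exact ha0 ((Submodule.mem_bot A).1 (hbot ▸ ⟨N.smul_mem a hxN, hs _ hat⟩))

/-- Length criterion. -/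
theorem exists_isInjectiveHull_of_length [IsNoetherianRing A] {I : Type u} [AddCommGroup I] [Module A I]
    (ha : LocCoh.IsPowerTorsion (IsLocalRing.maximalIdeal A) I)
    (e : (IsLocalRing.ResidueField A →ₗ[A] I) ≃ₗ[A] IsLocalRing.ResidueField A) (a : ℕ → Ideal A)
    (hcof : ∀ n, ∃ N : ℕ, IsLocalRing.maximalIdeal A ^ N ≤ a n)
    (hcof' : ∀ N : ℕ, ∃ n, a n ≤ IsLocalRing.maximalIdeal A ^ N)
    (hlen : ∀ n, Module.length A (A ⧸ a n) = Module.length A ((A ⧸ a n) →ₗ[A] I)) :
    ∃ f : IsLocalRing.ResidueField A →ₗ[A] I, InjHull.IsInjectiveHull f := by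
  obtain ⟨f, hf, -⟩ := exists_essential_of_socle ha e
  obtain ⟨E, _, _, i, hi⟩ := exists_injective_hull (R := A) (IsLocalRing.ResidueField A)
  obtain ⟨g, hg⟩ := hi.isInjective.out f hf.injective i
  have hgf : g ∘ₗ f = i := LinearMap.ext hg
  have hginj : Function.Injective g :=
    injective_of_isEssentialInj_comp hf (by rw [hgf]; exact hi.injective)
  have hgsurj : Function.Surjective g := by
    intro y
    obtain ⟨N, hN⟩ := isPowerTorsion_of_hull hi y
    obtain ⟨n, hn⟩ := hcof' N
    obtain ⟨M, hM⟩ := hcof n
    have hfl : IsFiniteLength A (A ⧸ a n) := by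
      haveI : IsArtinianRing (A ⧸ a n) := by
        haveI : Ring.KrullDimLE 0 (A ⧸ a n) := Ring.KrullDimLE.mk₀ fun p hp => by
          have hle : IsLocalRing.maximalIdeal A ≤ p.comap (Ideal.Quotient.mk (a n)) := by
            refine (hp.comap _).le_of_pow_le (n := M) (hM.trans ?_)
            intro x hx
            rw [Ideal.mem_comap, (Ideal.Quotient.eq_zero_iff_mem).2 hx]
            exact zero_mem _
          have he : IsLocalRing.maximalIdeal A = p.comap (Ideal.Quotient.mk (a n)) :=
            (IsLocalRing.maximalIdeal.isMaximal A).eq_of_le (hp.comap _).ne_top hle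
          haveI : (p.comap (Ideal.Quotient.mk (a n))).IsMaximal := he ▸ IsLocalRing.maximalIdeal.isMaximal A
          have h2 := Ideal.map_eq_top_or_isMaximal_of_surjective (Ideal.Quotient.mk (a n))
            Ideal.Quotient.mk_surjective (I := p.comap (Ideal.Quotient.mk (a n))) inferInstance
          rw [Ideal.map_comap_of_surjective _ Ideal.Quotient.mk_surjective] at h2
          exact h2.resolve_left hp.ne_top
        exact IsNoetherianRing.isArtinianRing_of_krullDimLE_zero
      haveI : IsArtinian A (A ⧸ a n) :=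
        isArtinian_of_surjective_algebraMap (Ideal.Quotient.mk_surjective (I := a n))
      exact isFiniteLength_iff_isNoetherian_isArtinian.2 ⟨inferInstance, inferInstance⟩
    have hlE := length_linearMap hi hfl
    obtain ⟨φ, hφ⟩ := surjective_of_length_eq (LinearMap.compRight A g : ((A ⧸ a n) →ₗ[A] I) →ₗ[A] _)
      (fun u v h => LinearMap.ext fun t => hginj (LinearMap.congr_fun h t))
      ((hlen n).symm.trans hlE.symm) (hlen n ▸ Module.length_ne_top_iff.2 hfl)
      ((homQuotEquiv (a n) E).symm ⟨y, (Submodule.mem_torsionBySet_iff _ _).2 fun b => hN b (hn b.2)⟩)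
    exact ⟨φ (Submodule.Quotient.mk 1), (LinearMap.congr_fun hφ _).trans (one_smul A y)⟩
  exact ⟨f, hf, injective_of_linearEquiv (LinearEquiv.ofBijective g ⟨hginj, hgsurj⟩) hi.isInjective⟩

end GrothLib.InjMod

namespace GrothLib.InjMod

open CategoryTheory

/-- Coextension of scalars keeps modules injective. -/
theorem injective_coextendScalars {R S : Type u} [CommRing R] [CommRing S] (φ : R →+* S)
    {M : Type u} [AddCommGroup M] [Module R M] (hM : Module.Injective R M) :
    Module.Injective S ((ModuleCat.coextendScalars φ).obj (ModuleCat.of R M)) := by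
  haveI : Injective (ModuleCat.of R M) := Module.injective_object_of_injective_module R M
  haveI : Injective ((ModuleCat.coextendScalars φ).obj (ModuleCat.of R M)) :=
    (ModuleCat.restrictCoextendScalarsAdj φ).map_injective _ inferInstance
  exact Module.injective_module_of_injective_object S _

end GrothLib.InjMod
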