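import Groth.Agent.Lib.InjMod.Matlis
import Groth.Agent.S5158
import Mathlib.RingTheory.AdicCompletion.AsTensorProduct

/-! The completion acts on power torsion modules; endomorphisms of the hull; duality over complete rings. -/

universe u

open TensorProduct

namespace GrothLib.Matlis

variable {R : Type u} [CommRing R] [IsLocalRing R] [IsNoetherianRing R]

section Act

variable {M : Type u} [AddCommGroup M] [Module R M] (hM : LocCoh.IsPowerTorsion (IsLocalRing.maximalIdeal R) M)

/-- `M ≅ Â ⊗ M` for power torsion `M`. -/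
noncomputable def tensorComplEquiv : M ≃ₗ[R] (AdicCompletion (IsLocalRing.maximalIdeal R) R ⊗[R] M) :=
  LinearEquiv.ofBijective (TensorProduct.mk R (AdicCompletion (IsLocalRing.maximalIdeal R) R) M 1)
    (Groth.Agent.S5158.result R M hM)

/-- The action of the completion. -/
noncomputable def complAct : AdicCompletion (IsLocalRing.maximalIdeal R) R →ₐ[R] Module.End R M :=
  ((tensorComplEquiv hM).symm.conjAlgEquiv R).toAlgHom.comp
    (Algebra.lsmul R R (AdicCompletion (IsLocalRing.maximalIdeal R) R ⊗[R] M))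

theorem complAct_mk (s : AdicCompletion.AdicCauchySequence (IsLocalRing.maximalIdeal R) R) {N : ℕ} {x : M}
    (hx : ∀ a ∈ (IsLocalRing.maximalIdeal R) ^ N, a • x = 0) :
    complAct hM (AdicCompletion.mk (IsLocalRing.maximalIdeal R) R s) x = s.val N • x := by
  refine (tensorComplEquiv hM).injective ?_
  show tensorComplEquiv hM ((tensorComplEquiv hM).symm
    (AdicCompletion.mk (IsLocalRing.maximalIdeal R) R s • tensorComplEquiv hM x)) = tensorComplEquiv hM (s.val N • x)
  rw [LinearEquiv.apply_symm_apply]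
  show AdicCompletion.mk (IsLocalRing.maximalIdeal R) R s • ((1 : AdicCompletion (IsLocalRing.maximalIdeal R) R) ⊗ₜ[R] x) =
    (1 : AdicCompletion (IsLocalRing.maximalIdeal R) R) ⊗ₜ[R] (s.val N • x)
  rw [TensorProduct.smul_tmul', smul_eq_mul, mul_one, ← TensorProduct.smul_tmul, ← sub_eq_zero,
    ← TensorProduct.sub_tmul]
  have hd : AdicCompletion.mk (IsLocalRing.maximalIdeal R) R s - s.val N • (1 : AdicCompletion (IsLocalRing.maximalIdeal R) R) ∈
      ((IsLocalRing.maximalIdeal R) ^ N • ⊤ : Submodule R (AdicCompletion (IsLocalRing.maximalIdeal R) R)) := by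
    rw [AdicCompletion.pow_smul_top_eq_ker_eval (IsNoetherian.noetherian (IsLocalRing.maximalIdeal R)), LinearMap.mem_ker,
      map_sub, map_smul]
    show Submodule.Quotient.mk (s.val N) - s.val N • Submodule.Quotient.mk (1 : R) = 0
    rw [← Submodule.Quotient.mk_smul, sub_eq_zero]
    exact congrArg Submodule.Quotient.mk (mul_one _).symm
  refine Submodule.smul_induction_on hd (fun a ha d _ => ?_) fun d e hd he => by
    rw [TensorProduct.add_tmul, hd, he, add_zero]
  rw [TensorProduct.smul_tmul, hx a ha, TensorProduct.tmul_zero]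

end Act

variable {E : Type u} [AddCommGroup E] [Module R E] {f : IsLocalRing.ResidueField R →ₗ[R] E}

theorem mem_pow_of_forall_smul (hf : InjHull.IsInjectiveHull f) {N : ℕ} {a : R}
    (h : ∀ x ∈ LocCoh.torsionBy ((IsLocalRing.maximalIdeal R) ^ N) E, a • x = 0) : a ∈ (IsLocalRing.maximalIdeal R) ^ N := by
  have : a ∈ Module.annihilator R (R ⧸ (IsLocalRing.maximalIdeal R) ^ N) := by
    rw [annihilator_dual hf, Module.mem_annihilator]
    intro φ
    refine (homQuotEquiv ((IsLocalRing.maximalIdeal R) ^ N) E).injective ?_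
    rw [map_smul, map_zero]
    exact Subtype.ext (h _ (homQuotEquiv ((IsLocalRing.maximalIdeal R) ^ N) E φ).2)
  rwa [Ideal.annihilator_quotient] at this

theorem exists_smul_eq (hf : InjHull.IsInjectiveHull f) (φ : Module.End R E) (N : ℕ) :
    ∃ a : R, ∀ x ∈ LocCoh.torsionBy ((IsLocalRing.maximalIdeal R) ^ N) E, φ x = a • x := by
  have hfl : IsFiniteLength R (R ⧸ (IsLocalRing.maximalIdeal R) ^ N) := by
    have hkill : ∀ a ∈ (IsLocalRing.maximalIdeal R) ^ N, ∀ z : R ⧸ (IsLocalRing.maximalIdeal R) ^ N, a • z = 0 := fun a ha z => by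
      obtain ⟨z, rfl⟩ := Submodule.Quotient.mk_surjective _ z
      rw [← Submodule.Quotient.mk_smul, Submodule.Quotient.mk_eq_zero]
      exact Ideal.mul_mem_right z _ ha
    haveI : IsArtinian R (R ⧸ (IsLocalRing.maximalIdeal R) ^ N) :=
      (LC.finite_iff_isArtinian_of_pow_smul (IsLocalRing.maximalIdeal R) hkill).1 inferInstance
    exact isFiniteLength_iff_isNoetherian_isArtinian.2 ⟨inferInstance, inferInstance⟩
  obtain ⟨z, hz⟩ := (applyₗ_bijective hf hfl).2
    (φ ∘ₗ LinearMap.applyₗ (Submodule.Quotient.mk 1))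
  obtain ⟨a, rfl⟩ := Submodule.Quotient.mk_surjective _ z
  refine ⟨a, fun x hx => ?_⟩
  obtain ⟨ψ, hψ⟩ := (homQuotEquiv ((IsLocalRing.maximalIdeal R) ^ N) E).surjective ⟨x, hx⟩
  have hψ' : ψ (Submodule.Quotient.mk 1) = x := congrArg Subtype.val hψ
  have := LinearMap.congr_fun hz ψ
  change ψ (Submodule.Quotient.mk a) = φ (ψ (Submodule.Quotient.mk 1)) at this
  rw [← hψ', ← this, ← map_smul, ← Submodule.Quotient.mk_smul, smul_eq_mul, mul_one]

theorem complAct_bijective (hf : InjHull.IsInjectiveHull f) :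
    Function.Bijective (complAct (isPowerTorsion_of_hull (m := IsLocalRing.maximalIdeal R) hf)) := by
  have hE := isPowerTorsion_of_hull (m := IsLocalRing.maximalIdeal R) hf
  constructor
  · rw [injective_iff_map_eq_zero]
    intro c hc
    obtain ⟨s, rfl⟩ := AdicCompletion.mk_surjective (IsLocalRing.maximalIdeal R) R c
    refine AdicCompletion.ext fun N => ?_
    show Submodule.Quotient.mk (s.val N) = 0
    rw [Submodule.Quotient.mk_eq_zero, smul_eq_mul, Ideal.mul_top]
    refine mem_pow_of_forall_smul hf fun x hx => ?_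
    rw [← complAct_mk hE s (x := x) fun a ha => (Submodule.mem_torsionBySet_iff _ _).1 hx ⟨a, ha⟩, hc]
    rfl
  · intro φ
    choose a ha using exists_smul_eq hf φ
    have hc : AdicCompletion.IsAdicCauchy (IsLocalRing.maximalIdeal R) R a := fun {m n} hmn => by
      rw [SModEq.sub_mem, smul_eq_mul, Ideal.mul_top]
      refine mem_pow_of_forall_smul hf fun x hx => ?_
      have hx' : x ∈ LocCoh.torsionBy ((IsLocalRing.maximalIdeal R) ^ n) E :=
        Submodule.torsionBySet_le_torsionBySet_of_subset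
          (SetLike.coe_subset_coe.2 (Ideal.pow_le_pow_right hmn)) hx
      rw [sub_smul, ← ha m x hx, ← ha n x hx', sub_self]
    refine ⟨AdicCompletion.mk (IsLocalRing.maximalIdeal R) R ⟨a, hc⟩, LinearMap.ext fun x => ?_⟩
    obtain ⟨N, hN⟩ := hE x
    rw [complAct_mk hE _ hN]
    exact (ha N x ((Submodule.mem_torsionBySet_iff _ _).2 fun b => hN b b.2)).symm

/-- `End(E) ≅ Â`. -/
noncomputable def endEquiv (hf : InjHull.IsInjectiveHull f) :
    Module.End R E ≃ₐ[R] AdicCompletion (IsLocalRing.maximalIdeal R) R :=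
  (AlgEquiv.ofBijective (complAct (isPowerTorsion_of_hull (m := IsLocalRing.maximalIdeal R) hf))
    (complAct_bijective hf)).symm

variable [IsAdicComplete (IsLocalRing.maximalIdeal R) R]

theorem exists_eq_smul (hf : InjHull.IsInjectiveHull f) (φ : E →ₗ[R] E) :
    ∃ a : R, ∀ x, φ x = a • x := by
  obtain ⟨c, hc⟩ := (complAct_bijective hf).2 φ
  obtain ⟨a, rfl⟩ := AdicCompletion.of_surjective (IsLocalRing.maximalIdeal R) R c
  refine ⟨a, fun x => ?_⟩
  rw [← hc, show AdicCompletion.of (IsLocalRing.maximalIdeal R) R a = algebraMap R (AdicCompletion (IsLocalRing.maximalIdeal R) R) a from rfl,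
    AlgHom.commutes, Module.algebraMap_end_apply]

theorem applyₗ_surjective_of_finite (hf : InjHull.IsInjectiveHull f) (M : Type u) [AddCommGroup M]
    [Module R M] [Module.Finite R M] :
    Function.Surjective (LinearMap.applyₗ : M →ₗ[R] (M →ₗ[R] E) →ₗ[R] E) := by
  classical
  intro Φ
  obtain ⟨n, π, hπ⟩ := Module.Finite.exists_fin' R M
  obtain ⟨Φ', hΦ'⟩ := hf.isInjective.out (LinearMap.lcomp R E π)
    (LinearMap.lcomp_injective_of_surjective _ hπ) Φ
  let J : Fin n → (E →ₗ[R] (Fin n → R) →ₗ[R] E) := fun i =>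
    (LinearMap.lsmul R E ∘ₗ LinearMap.proj i).flip
  choose a ha using fun i => exists_eq_smul hf (Φ' ∘ₗ J i)
  refine ⟨π a, LinearMap.ext fun ψ => ?_⟩
  show ψ (π a) = Φ ψ
  rw [← hΦ' ψ]
  let χ : (Fin n → R) →ₗ[R] E := ψ ∘ₗ π
  have hexp : χ = ∑ i, J i (χ (Pi.single i 1)) := by
    refine LinearMap.ext fun v => ?_
    rw [LinearMap.sum_apply]
    conv_lhs => rw [pi_eq_sum_univ' v, map_sum]
    exact Finset.sum_congr rfl fun i _ => map_smul χ _ _
  show χ a = Φ' χ
  conv_rhs => rw [hexp, map_sum]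
  conv_lhs => rw [pi_eq_sum_univ' a, map_sum]
  exact Finset.sum_congr rfl fun i _ => (map_smul χ _ _).trans (ha i _).symm

theorem duality_artinian (hf : InjHull.IsInjectiveHull f) {M : Type u} [AddCommGroup M] [Module R M]
    {n : ℕ} (g : M →ₗ[R] (Fin n → E)) (hg : Function.Injective g) :
    Module.Finite R (M →ₗ[R] E) ∧
      Function.Bijective (LinearMap.applyₗ : M →ₗ[R] (M →ₗ[R] E) →ₗ[R] E) := by
  classical
  have hgen : ∀ φ : (Fin n → E) →ₗ[R] E, ∃ a : Fin n → R, φ = ∑ i, a i • LinearMap.proj i := by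
    intro φ
    choose a ha using fun i => exists_eq_smul hf (φ ∘ₗ LinearMap.single R (fun _ : Fin n => E) i)
    refine ⟨a, LinearMap.ext fun v => ?_⟩
    rw [LinearMap.sum_apply]
    conv_lhs => rw [← Finset.univ_sum_single v, map_sum]
    exact Finset.sum_congr rfl fun i _ => ha i (v i)
  have hsurj := lcomp_surjective hf.isInjective g hg
  constructor
  · refine Module.Finite.of_surjective
      (LinearMap.lcomp R E g ∘ₗ Fintype.linearCombination R
        (fun i : Fin n => (LinearMap.proj i : (Fin n → E) →ₗ[R] E))) fun ψ => ?_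
    obtain ⟨φ, rfl⟩ := hsurj ψ
    obtain ⟨a, rfl⟩ := hgen φ
    exact ⟨a, congrArg (LinearMap.lcomp R E g) (Fintype.linearCombination_apply R _ a)⟩
  refine ⟨applyₗ_injective hf M, fun Φ => ?_⟩
  let y : Fin n → E := fun i => Φ (LinearMap.proj i ∘ₗ g)
  have hy : ∀ φ : (Fin n → E) →ₗ[R] E, φ y = Φ (φ ∘ₗ g) := fun φ => by
    obtain ⟨a, rfl⟩ := hgen φ
    show _ = (Φ ∘ₗ LinearMap.lcomp R E g) (∑ i, a i • LinearMap.proj i)
    rw [map_sum, LinearMap.sum_apply]
    exact Finset.sum_congr rfl fun i _ =>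
      (map_smul (Φ ∘ₗ LinearMap.lcomp R E g) (a i) (LinearMap.proj i)).symm
  have hmem : y ∈ LinearMap.range g := by
    by_contra hy'
    obtain ⟨φ, hφ⟩ := exists_apply_ne_zero hf
      (x := (Submodule.Quotient.mk y : (Fin n → E) ⧸ LinearMap.range g))
      (fun h => hy' ((Submodule.Quotient.mk_eq_zero _).1 h))
    refine hφ ?_
    show (φ ∘ₗ Submodule.mkQ _) y = 0
    rw [hy, LinearMap.comp_assoc, LinearMap.range_mkQ_comp, LinearMap.comp_zero, map_zero]
  obtain ⟨x, hx⟩ := hmem
  refine ⟨x, LinearMap.ext fun ψ => ?_⟩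
  obtain ⟨φ, rfl⟩ := hsurj ψ
  show φ (g x) = _
  rw [hx, hy]
  rfl

end GrothLib.Matlis
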